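import Cfsg.Agent.H66.M23.Loc
import Cfsg.Agent.H436.KreinM
import Cfsg.Agent.H315.PwHN
import Cfsg.Agent.H689.Rat
import Cfsg.Agent.CharactersDeep.ColumnBessel

/-!
# The values of the character of degree `196883` at the elements of order 55, 95, 110 of the Monster (helper641)

(b2) of (M,23), S4929.  `C(v) = ⟨v⟩ × T`, `T ≅ HN`, `V(v) = 133`: `V(v y₁₉) = 0`, `V(v y₁₁) = 1`,
`V(v t y₁₁) = -1` (`V(v t) = 21`).
-/

set_option autoImplicit false
set_option linter.unusedSectionVars false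

open Cfsg Subgroup
open Cfsg.Agent.Characters.Core
open Cfsg.Agent.H66.M23.Loc (DP)
open Cfsg.Agent.H493.RatB (RatV)
open scoped ComplexConjugate

namespace Cfsg.Agent.H641.M23

universe v

section gen

variable {G : Type v} [Group G] [Finite G]

/-- the symmetric square of `χ₁` is `1 + χ₁ + χ₄ + χ₅` -/
structure Sq (χ₁ χ₄ χ₅ : IrrCharacter G) : Prop where
  d1 : (χ₁ : G → ℂ) 1 = 196883
  d4 : (χ₄ : G → ℂ) 1 = 842609326
  d5 : (χ₅ : G → ℂ) 1 = 18538750076
  r1 : RatV (χ₁ : G → ℂ)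
  r4 : RatV (χ₄ : G → ℂ)
  r5 : RatV (χ₅ : G → ℂ)
  sq : ∀ g, ((χ₁ : G → ℂ) g ^ 2 + (χ₁ : G → ℂ) (g * g)) / 2 =
    1 + (χ₁ : G → ℂ) g + (χ₄ : G → ℂ) g + (χ₅ : G → ℂ) g

theorem exists_int {χ : IrrCharacter G} (h : RatV (χ : G → ℂ)) (g : G) : ∃ k : ℤ, (χ : G → ℂ) g = k :=
  Cfsg.Agent.Characters.GaloisBasic.exists_int_of_rat (isIrr_isCharacter χ.2) g (h g)

/-- **The inequality.** -/
theorem Sq.ineq {χ₁ χ₄ χ₅ : IrrCharacter G} (S : Sq χ₁ χ₄ χ₅) (g : G) : ∃ a a' b c : ℤ,
    (χ₁ : G → ℂ) g = a ∧ (χ₁ : G → ℂ) (g * g) = a' ∧ a ^ 2 + a' = 2 * (1 + a + b + c) ∧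
      1 + a ^ 2 + b ^ 2 + c ^ 2 ≤ (Nat.card (centralizer ({g} : Set G)) : ℤ) := by
  classical
  obtain ⟨a, ha⟩ := exists_int S.r1 g
  obtain ⟨a', ha'⟩ := exists_int S.r1 (g * g)
  obtain ⟨b, hb⟩ := exists_int S.r4 g
  obtain ⟨c, hc⟩ := exists_int S.r5 g
  refine ⟨a, a', b, c, ha, ha', ?_, ?_⟩
  · have h := S.sq g
    rw [ha, ha', hb, hc] at h
    have h2 : (a : ℂ) ^ 2 + a' = 2 * (1 + a + b + c) := by linear_combination 2 * h
    exact_mod_cast h2
  · let χ₀ : IrrCharacter G := ⟨fun _ => 1, isIrr_one⟩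
    have e0 : ∀ x, (χ₀ : G → ℂ) x = 1 := fun _ => rfl
    have hne : ∀ {a b : IrrCharacter G} {x y : ℂ}, (a : G → ℂ) 1 = x → (b : G → ℂ) 1 = y → x ≠ y → a ≠ b := by
      rintro a b x y ha hb hxy rfl
      exact hxy (ha.symm.trans hb)
    have n01 : χ₀ ≠ χ₁ := hne (e0 1) S.d1 (by norm_num)
    have n04 : χ₀ ≠ χ₄ := hne (e0 1) S.d4 (by norm_num)
    have n05 : χ₀ ≠ χ₅ := hne (e0 1) S.d5 (by norm_num)
    have n14 : χ₁ ≠ χ₄ := hne S.d1 S.d4 (by norm_num)
    have n15 : χ₁ ≠ χ₅ := hne S.d1 S.d5 (by norm_num)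
    have n45 : χ₄ ≠ χ₅ := hne S.d4 S.d5 (by norm_num)
    have h := CharactersDeep.ColumnBessel.sum_norm_sq_le ({χ₀, χ₁, χ₄, χ₅} : Finset (IrrCharacter G)) g
    have m0 : χ₀ ∉ ({χ₁, χ₄, χ₅} : Finset (IrrCharacter G)) := by
      rw [Finset.mem_insert, Finset.mem_insert, Finset.mem_singleton]
      rintro (h | h | h)
      exacts [n01 h, n04 h, n05 h]
    have m1 : χ₁ ∉ ({χ₄, χ₅} : Finset (IrrCharacter G)) := by
      rw [Finset.mem_insert, Finset.mem_singleton]
      rintro (h | h)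
      exacts [n14 h, n15 h]
    have m4 : χ₄ ∉ ({χ₅} : Finset (IrrCharacter G)) := by
      rw [Finset.mem_singleton]
      exact n45
    have nn : ∀ k : ℤ, ‖(k : ℂ)‖ ^ 2 = ((k ^ 2 : ℤ) : ℝ) := fun k => by
      rw [Complex.norm_intCast, sq_abs]
      push_cast
      rfl
    rw [Finset.sum_insert m0, Finset.sum_insert m1, Finset.sum_insert m4, Finset.sum_singleton, e0, ha, hb, hc, nn, nn,
      nn, norm_one, one_pow] at h
    have h2 : ((1 + a ^ 2 + b ^ 2 + c ^ 2 : ℤ) : ℝ) ≤ ((Nat.card (centralizer ({g} : Set G)) : ℤ) : ℝ) := by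
      push_cast at h ⊢
      linarith
    exact_mod_cast h2

/-- a rational character at the square of an element of odd order -/
theorem sq_of_odd {χ : IrrCharacter G} (h : RatV (χ : G → ℂ)) {g : G} (hg : Odd (orderOf g)) :
    (χ : G → ℂ) (g * g) = (χ : G → ℂ) g := by
  obtain ⟨m, h1, h2⟩ := Cfsg.Agent.H689.exists_coprime_lift (m := 2) (a := orderOf g) (N := Nat.card G)
    Nat.card_pos.ne' (orderOf_dvd_natCard g) (Nat.coprime_two_left.2 hg)
  have h3 := (Cfsg.Agent.Characters.GaloisBasic.exists_rat_iff (isIrr_isCharacter χ.2) g).1 (h g) m h1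
  rw [pow_eq_pow_iff_modEq.2 h2, pow_two] at h3
  exact h3

/-- congruence for a `p`-part -/
theorem dvd_sub_of {p : ℕ} (hp : p.Prime) (χ : IrrCharacter G) {x y : G} (hxy : Commute x y) (hx : orderOf x = p)
    (hy : ¬ p ∣ orderOf y) {a b : ℤ} (ha : (χ : G → ℂ) (y * x) = a) (hb : (χ : G → ℂ) y = b) : (p : ℤ) ∣ a - b := by
  obtain ⟨M, hM⟩ := Blocks.ExistsModular.exists_isPModular hp
  have h1 := CharactersDeep.ModCongr.memLocalIdeal_character_sub hM χ.2 (x * y) x ⟨y, rfl, hxy,
    ⟨1, by rw [hx, pow_one]⟩, hy⟩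
  rw [inv_mul_cancel_left, hxy.eq, ha, hb] at h1
  have h2 : (a : ℂ) - (b : ℂ) = ((a - b : ℤ) : ℂ) := by push_cast; ring
  rw [h2, Blocks.Local.memLocalIdeal_intCast_iff hM] at h1
  exact h1

end gen

section loc

variable {G : Type} [Group G] [Finite G]

/-- `|C(v y)| ≤ p |C_T(y)|` -/
theorem card_cent_le {S : Type} [Group S] {p : ℕ} (hp : p.Prime) {v : G} {T : Subgroup G} (hT : DP S p v T) {y : T}
    (hy : ¬ p ∣ orderOf y) :
    Nat.card (centralizer ({v * (y : G)} : Set G)) ≤ p * Nat.card (centralizer ({y} : Set T)) := by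
  have hvy : Commute v (y : G) := (mem_centralizer_singleton_iff.1 (hT.le y.2)).symm
  have hvp : v ^ p = 1 := by rw [← hT.ord, pow_orderOf_eq_one]
  have hcop : Nat.Coprime (orderOf v) (orderOf (y : G)) := by
    rw [hT.ord, Subgroup.orderOf_coe]
    exact (Nat.Prime.coprime_iff_not_dvd hp).2 hy
  -- `v` is a power of `v y`
  have hv : v ∈ zpowers (v * (y : G)) := by
    have h1 : orderOf (v * (y : G)) = orderOf v * orderOf (y : G) := hvy.orderOf_mul_eq_mul_orderOf_of_coprime hcop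
    have h2 : (v * (y : G)) ^ orderOf (y : G) = v ^ orderOf (y : G) := by
      rw [hvy.mul_pow, pow_orderOf_eq_one, mul_one]
    have h3 : v ∈ zpowers (v ^ orderOf (y : G)) := mem_zpowers_pow_iff.2 hcop.symm
    exact (Subgroup.zpowers_le.2 (h2 ▸ pow_mem (mem_zpowers _) _)) h3
  have key : ∀ c : centralizer ({v * (y : G)} : Set G), ∃ (i : Fin p) (t : centralizer ({y} : Set T)),
      (c : G) = v ^ (i : ℕ) * ((t : T) : G) := by
    intro c
    have hc := mem_centralizer_singleton_iff.1 c.2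
    have hcv : (c : G) * v = v * c := by
      obtain ⟨k, hk⟩ := mem_zpowers_iff.1 hv
      have h1 : Commute (c : G) (v * (y : G)) := hc
      have h2 := h1.zpow_right k
      rw [hk] at h2
      exact h2
    have hcy : (c : G) * y = y * c := by
      have h1 : Commute (c : G) (v * (y : G)) := hc
      have h2 : Commute (c : G) v⁻¹ := (show Commute (c : G) v from hcv).inv_right
      have h3 := h2.mul_right h1
      rw [inv_mul_cancel_left] at h3
      exact h3
    obtain ⟨i, t, ht, e⟩ := hT.split c (mem_centralizer_singleton_iff.2 hcv)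
    have hty : t * (y : G) = y * t := by
      have h1 : Commute t (y : G) := by
        have h2 : t = (v ^ i)⁻¹ * c := by rw [e, inv_mul_cancel_left]
        rw [h2]
        exact ((hvy.pow_left i).inv_left).mul_left hcy
      exact h1
    refine ⟨⟨i % p, Nat.mod_lt _ hp.pos⟩, ⟨⟨t, ht⟩, mem_centralizer_singleton_iff.2 (Subtype.ext hty)⟩, ?_⟩
    show (c : G) = v ^ (i % p) * t
    rw [e, ← pow_eq_pow_mod i hvp]
  choose i t hit using key
  have hinj : Function.Injective fun c : centralizer ({v * (y : G)} : Set G) => (i c, t c) := by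
    intro a b hab
    have h1 := congrArg Prod.fst hab
    have h2 := congrArg Prod.snd hab
    apply Subtype.ext
    rw [hit a, hit b]
    rw [show i a = i b from h1, show t a = t b from h2]
  have := Nat.card_le_card_of_injective _ hinj
  rwa [Nat.card_prod, Nat.card_eq_fintype_card (α := Fin p), Fintype.card_fin] at this

variable {v : G} {T : Subgroup G}

theorem card_eq_hn {y : T} (e : T ≃* Spor.HN) :
    Nat.card (centralizer ({y} : Set T)) = Nat.card (centralizer ({e y} : Set Spor.HN)) := by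
  refine Nat.card_congr ⟨fun c => ⟨e c, ?_⟩, fun c => ⟨e.symm c, ?_⟩, fun c => ?_, fun c => ?_⟩
  · rw [mem_centralizer_singleton_iff, ← map_mul, mem_centralizer_singleton_iff.1 c.2, map_mul]
  · rw [mem_centralizer_singleton_iff]
    apply e.injective
    rw [map_mul, map_mul, e.apply_symm_apply, mem_centralizer_singleton_iff.1 c.2]
  · exact Subtype.ext (e.symm_apply_apply _)
  · exact Subtype.ext (e.apply_symm_apply _)

theorem card_nineteen (hT : DP Spor.HN 5 v T) {y : T} (hy : orderOf y = 19) :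
    Nat.card (centralizer ({v * (y : G)} : Set G)) ≤ 95 := by
  obtain ⟨e⟩ := hT.iso
  have h1 := card_cent_le Nat.prime_five hT (y := y) (by rw [hy]; norm_num)
  rw [card_eq_hn e, H315.PwHN.card_nineteen (by rw [MulEquiv.orderOf_eq, hy])] at h1
  exact h1

theorem card_eleven (hT : DP Spor.HN 5 v T) {y : T} (hy : orderOf y = 11) :
    Nat.card (centralizer ({v * (y : G)} : Set G)) ≤ 110 := by
  obtain ⟨e⟩ := hT.iso
  have h1 := card_cent_le Nat.prime_five hT (y := y) (by rw [hy]; norm_num)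
  rw [card_eq_hn e, H315.PwHN.card_eleven (by rw [MulEquiv.orderOf_eq, hy])] at h1
  exact h1

theorem card_twentytwo (hT : DP Spor.HN 5 v T) {t y : T} (ht : orderOf t = 2) (hy : orderOf y = 11)
    (hty : Commute t y) : Nat.card (centralizer ({v * ((t * y : T) : G)} : Set G)) ≤ 110 := by
  obtain ⟨e⟩ := hT.iso
  have ho : orderOf (t * y) = 22 := by
    rw [hty.orderOf_mul_eq_mul_orderOf_of_coprime (by rw [ht, hy]; norm_num), ht, hy]
  have h1 := card_cent_le Nat.prime_five hT (y := t * y) (by rw [ho]; norm_num)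
  have h2 : Nat.card (centralizer ({t * y} : Set T)) ≤ Nat.card (centralizer ({y} : Set T)) := by
    refine Nat.card_le_card_of_injective (Subgroup.inclusion ?_) (Subgroup.inclusion_injective _)
    intro c hc
    rw [mem_centralizer_singleton_iff] at hc ⊢
    have h3 : Commute c (t * y) := hc
    have h4 : y = (t * y) ^ 12 := by
      rw [hty.mul_pow, show t ^ 12 = 1 by rw [show 12 = 2 * 6 by norm_num, pow_mul, ← ht, pow_orderOf_eq_one, one_pow],
        show y ^ 12 = y by rw [show 12 = 11 + 1 by norm_num, pow_succ, ← hy, pow_orderOf_eq_one, one_mul], one_mul]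
    rw [h4]
    exact h3.pow_right 12
  rw [card_eq_hn (y := y) e, H315.PwHN.card_eleven (by rw [MulEquiv.orderOf_eq, hy])] at h2
  omega

variable {χ₁ χ₄ χ₅ : IrrCharacter G} (S : Sq χ₁ χ₄ χ₅) (hT : DP Spor.HN 5 v T) (hv : (χ₁ : G → ℂ) v = 133)

include hT in
theorem comm_T (y : T) : Commute v (y : G) := (mem_centralizer_singleton_iff.1 (hT.le y.2)).symm

include hT S hv in
/-- `V(95A) = 0` -/
theorem beta_nineteen {y : T} (hy : orderOf y = 19) : (χ₁ : G → ℂ) (v * (y : G)) = 0 := by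
  obtain ⟨a, a', b, c, ha, ha', h1, h2⟩ := S.ineq (v * (y : G))
  have h3 := dvd_sub_of (p := 19) (by norm_num) χ₁ (x := (y : G)) (y := v) (comm_T hT y).symm
    (by rw [Subgroup.orderOf_coe, hy]) (by rw [hT.ord]; norm_num) ha (b := 133) (by rw [hv]; norm_num)
  have h4 : (Nat.card (centralizer ({v * (y : G)} : Set G)) : ℤ) ≤ 95 := by exact_mod_cast card_nineteen hT hy
  have h5 : a ^ 2 ≤ 94 := by nlinarith [sq_nonneg b, sq_nonneg c]
  have h6 : a ≤ 9 := by nlinarith
  have h7 : -9 ≤ a := by nlinarith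
  have h8 : a = 0 := by omega
  rw [ha, h8, Int.cast_zero]

include hT S hv in
/-- `V(55A) = 1` -/
theorem beta_eleven {y : T} (hy : orderOf y = 11) : (χ₁ : G → ℂ) (v * (y : G)) = 1 := by
  obtain ⟨a, a', b, c, ha, ha', h1, h2⟩ := S.ineq (v * (y : G))
  have h3 := dvd_sub_of (p := 11) (by norm_num) χ₁ (x := (y : G)) (y := v) (comm_T hT y).symm
    (by rw [Subgroup.orderOf_coe, hy]) (by rw [hT.ord]; norm_num) ha (b := 133) (by rw [hv]; norm_num)
  have h4 : (Nat.card (centralizer ({v * (y : G)} : Set G)) : ℤ) ≤ 110 := by exact_mod_cast card_eleven hT hy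
  have ho : Odd (orderOf (v * (y : G))) := by
    rw [(comm_T hT y).orderOf_mul_eq_mul_orderOf_of_coprime (by rw [hT.ord, Subgroup.orderOf_coe, hy]; norm_num), hT.ord,
      Subgroup.orderOf_coe, hy]
    decide
  have h5 := sq_of_odd S.r1 ho
  rw [ha, ha'] at h5
  have h6 : a' = a := by exact_mod_cast h5
  subst h6
  have h7 : a' ^ 2 ≤ 109 := by nlinarith [sq_nonneg b, sq_nonneg c]
  have h8 : a' ≤ 10 := by nlinarith
  have h9 : -10 ≤ a' := by nlinarith
  have h10 : a' = 1 ∨ a' = -10 := by omega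
  rcases h10 with h10 | h10
  · rw [ha, h10, Int.cast_one]
  · exfalso
    rw [h10] at h1 h2
    have h11 : c = 54 - b := by linarith
    rw [h11] at h2
    nlinarith [sq_nonneg (b - 27)]

include hT S hv in
/-- `V(110A) = -1` -/
theorem beta_twentytwo {t y : T} (ht : orderOf t = 2) (hy : orderOf y = 11) (hty : Commute t y)
    (h21 : (χ₁ : G → ℂ) (v * (t : G)) = 21) : (χ₁ : G → ℂ) (v * ((t * y : T) : G)) = -1 := by
  obtain ⟨a, a', b, c, ha, ha', h1, h2⟩ := S.ineq (v * ((t * y : T) : G))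
  have hvt : Commute v (t : G) := comm_T hT t
  have hvy : Commute v (y : G) := comm_T hT y
  have hty' : Commute (t : G) (y : G) := congrArg (fun z : T => (z : G)) hty.eq
  have e : v * ((t * y : T) : G) = v * (t : G) * (y : G) := by rw [Subgroup.coe_mul, mul_assoc]
  have h3 := dvd_sub_of (p := 11) (by norm_num) χ₁ (x := (y : G)) (y := v * (t : G)) (hvy.symm.mul_right hty'.symm)
    (by rw [Subgroup.orderOf_coe, hy]) (by
      rw [hvt.orderOf_mul_eq_mul_orderOf_of_coprime (by rw [hT.ord, Subgroup.orderOf_coe, ht]; norm_num), hT.ord,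
        Subgroup.orderOf_coe, ht]
      norm_num) (by rw [← e]; exact ha) (b := 21) (by rw [h21]; norm_num)
  have h4 : (Nat.card (centralizer ({v * ((t * y : T) : G)} : Set G)) : ℤ) ≤ 110 := by
    exact_mod_cast card_twentytwo hT ht hy hty
  have e2 : v * ((t * y : T) : G) * (v * ((t * y : T) : G)) = v * (y : G) * (v * (y : G)) := by
    have ht2 : (t : G) * t = 1 := by
      have h5 : t ^ 2 = 1 := by rw [← ht, pow_orderOf_eq_one]
      rw [← pow_two]
      exact congrArg (fun z : T => (z : G)) h5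
    rw [e]
    calc v * (t : G) * (y : G) * (v * (t : G) * (y : G)) = v * ((t : G) * ((y : G) * v) * (t : G)) * (y : G) := by group
      _ = v * ((t : G) * (v * (y : G)) * (t : G)) * (y : G) := by rw [hvy.eq]
      _ = v * (((t : G) * v) * ((y : G) * (t : G))) * (y : G) := by group
      _ = v * ((v * (t : G)) * ((t : G) * (y : G))) * (y : G) := by rw [hvt.eq, hty'.eq]
      _ = v * (v * ((t : G) * (t : G)) * (y : G)) * (y : G) := by group
      _ = v * (v * (y : G)) * (y : G) := by rw [ht2, mul_one]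
      _ = v * ((y : G) * v) * (y : G) := by rw [hvy.eq]
      _ = _ := by group
  have ho : Odd (orderOf (v * (y : G))) := by
    rw [hvy.orderOf_mul_eq_mul_orderOf_of_coprime (by rw [hT.ord, Subgroup.orderOf_coe, hy]; norm_num), hT.ord,
      Subgroup.orderOf_coe, hy]
    decide
  rw [e2, sq_of_odd S.r1 ho, beta_eleven S hT hv hy] at ha'
  have h6 : a' = 1 := by exact_mod_cast ha'.symm
  have h7 : a ^ 2 ≤ 109 := by nlinarith [sq_nonneg b, sq_nonneg c]
  have h8 : a ≤ 10 := by nlinarith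
  have h9 : -10 ≤ a := by nlinarith
  have h10 : a = -1 ∨ a = 10 := by omega
  rcases h10 with h10 | h10
  · rw [ha, h10]
    norm_num
  · exfalso
    rw [h10, h6] at h1
    omega

end loc

end Cfsg.Agent.H641.M23
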