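import Cfsg.Agent.H641.M23.Pi

/-!
# The class sums of HN for (M,23) (helper641; piece H8, and the numbers of H7)

`Tab K F`: `F` takes the values `th i` on the pairwise disjoint sets `K i` (the 15 classes of HN where the character
of degree `2375000` does not vanish, `|K i| ≤ NN i`), and `0` elsewhere.
* `Tab.norm_le` : `∑ F² ≤ |HN|`;
* `Tab.card_eq` : if `|HN| ≤ ∑ F²` then `|K i| = NN i`;
* `Tab.sum_eq` : then `∑ S F = |HN|` for every `S` with the values `ss i` (`S = S_(2,2)(β)`).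
-/

set_option autoImplicit false

namespace Cfsg.Agent.H641.M23

/-- the classes `1, 2A, 2B, 3A, 3B, 4A, 6A, 6B, 7A, 9A, 11A, 12B, 14A, 21A, 22A` of `HN`: numbers of elements -/
def NN : Fin 15 → ℤ := ![1, 1539000, 74064375, 501600000, 9363200000, 17775450000, 189604800000, 474012000000,
  650073600000, 10112256000000, 12410496000000, 5688144000000, 9751104000000, 13001472000000, 12410496000000]

/-- orders of the centralizers -/
def cc : Fin 15 → ℤ := ![273030912000000, 177408000, 3686400, 544320, 29160, 15360, 1440, 576, 420, 27, 22, 48, 28, 21, 22]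

/-- the values of the character of degree `2375000` -/
def th : Fin 15 → ℤ := ![2375000, -1000, 600, -190, 80, 40, -10, -6, 5, -1, 1, -2, 1, -1, 1]

/-- the values of `β` at `y`, `y²`, `y³` -/
def b1 : Fin 15 → ℤ := ![133, 21, 5, 7, -2, 5, 3, -1, 0, 1, 1, -1, 0, 0, -1]

/-- the values of `β` at `y²` -/
def b2 : Fin 15 → ℤ := ![133, 133, 133, 7, -2, 5, 7, 7, 0, 1, 1, -1, 0, 0, 1]

/-- the values of `β` at `y³` -/
def b3 : Fin 15 → ℤ := ![133, 21, 5, 133, 133, 5, 21, 5, 0, -2, 1, 5, 0, 0, -1]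

/-- the values of `S_(2,2)(β)` -/
def ss : Fin 15 → ℤ := ![26073586, 20482, 4466, -98, 91, 50, -2, 14, 0, 1, 0, 2, 0, 0, 0]

theorem cc_NN : ∀ i, cc i * NN i = 273030912000000 := by decide +kernel

theorem NN_nonneg : ∀ i, 0 ≤ NN i := by decide +kernel

theorem th_ne : ∀ i, th i ≠ 0 := by decide +kernel

theorem ss_eq : ∀ i, 12 * ss i = b1 i ^ 4 + 3 * b2 i ^ 2 - 4 * (b1 i * b3 i) := by decide +kernel

theorem sum_th : ∑ i, NN i * th i ^ 2 = 273030912000000 := by decide +kernel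

theorem sum_ss : ∑ i, NN i * (ss i * th i) = 273030912000000 := by decide +kernel

/-- the values of `F` -/
structure Tab {H : Type*} [Fintype H] (K : Fin 15 → Finset H) (F : H → ℤ) : Prop where
  dis : ∀ i j, i ≠ j → Disjoint (K i) (K j)
  le : ∀ i, ((K i).card : ℤ) ≤ NN i
  val : ∀ i, ∀ h ∈ K i, F h = th i
  zero : ∀ h, (∀ i, h ∉ K i) → F h = 0

section

variable {H : Type*} [Fintype H] {K : Fin 15 → Finset H} {F : H → ℤ}

theorem Tab.sum (T : Tab K F) {X : H → ℤ} {x : Fin 15 → ℤ} (hX : ∀ i, ∀ h ∈ K i, X h = x i)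
    (h0 : ∀ h, (∀ i, h ∉ K i) → X h = 0) : ∑ h, X h = ∑ i, ((K i).card : ℤ) * x i := by
  classical
  have h1 : ∀ i, ((K i).card : ℤ) * x i = ∑ h ∈ K i, X h := by
    intro i
    rw [Finset.sum_congr rfl (hX i), Finset.sum_const, nsmul_eq_mul]
  have h2 : ∑ i, ∑ h ∈ K i, X h = ∑ h ∈ Finset.univ.biUnion K, X h :=
    (Finset.sum_biUnion fun i _ j _ hij => T.dis i j hij).symm
  rw [Finset.sum_congr rfl fun i _ => h1 i, h2]
  refine (Finset.sum_subset (Finset.subset_univ _) fun h _ hh => h0 h fun i hi => hh ?_).symm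
  exact Finset.mem_biUnion.2 ⟨i, Finset.mem_univ i, hi⟩

/-- the norm -/
theorem Tab.norm_le (T : Tab K F) : ∑ h, F h ^ 2 ≤ 273030912000000 := by
  rw [T.sum (x := fun i => th i ^ 2) (fun i h hh => by rw [T.val i h hh]) (fun h hh => by
    rw [T.zero h hh]; norm_num), ← sum_th]
  exact Finset.sum_le_sum fun i _ => mul_le_mul_of_nonneg_right (T.le i) (sq_nonneg _)

/-- the exact numbers of elements -/
theorem Tab.card_eq (T : Tab K F) (h : 273030912000000 ≤ ∑ h, F h ^ 2) (i : Fin 15) : ((K i).card : ℤ) = NN i := by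
  have h1 : ∑ h, F h ^ 2 = ∑ i, ((K i).card : ℤ) * th i ^ 2 :=
    T.sum (fun i h hh => by rw [T.val i h hh]) (fun h hh => by rw [T.zero h hh]; norm_num)
  have h2 : ∀ i ∈ (Finset.univ : Finset (Fin 15)), ((K i).card : ℤ) * th i ^ 2 ≤ NN i * th i ^ 2 := fun i _ =>
    mul_le_mul_of_nonneg_right (T.le i) (sq_nonneg _)
  have h3 : ∑ i, ((K i).card : ℤ) * th i ^ 2 = ∑ i, NN i * th i ^ 2 := by
    refine le_antisymm (Finset.sum_le_sum h2) ?_
    rw [sum_th, ← h1]
    exact h
  have h4 := (Finset.sum_eq_sum_iff_of_le h2).1 h3 i (Finset.mem_univ i)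
  exact mul_right_cancel₀ (pow_ne_zero 2 (th_ne i)) h4

/-- **the inner product with `S_(2,2)(β)`** -/
theorem Tab.sum_eq (T : Tab K F) (h : 273030912000000 ≤ ∑ h, F h ^ 2) {S : H → ℤ}
    (hS : ∀ i, ∀ h ∈ K i, S h = ss i) : ∑ h, S h * F h = 273030912000000 := by
  have h1 : ∑ h, S h * F h = ∑ i, ((K i).card : ℤ) * (ss i * th i) :=
    T.sum (fun i h hh => by rw [T.val i h hh, hS i h hh]) (fun h hh => by rw [T.zero h hh, mul_zero])
  rw [h1, ← sum_ss]
  exact Finset.sum_congr rfl fun i _ => by rw [T.card_eq h i]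

end

end Cfsg.Agent.H641.M23
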