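import Cfsg.Agent.H641.M23.HEight
import Cfsg.Agent.H641.M23.Beta

/-!
# The inner product of `S_(2,2)(V)(u ·)` with the character of degree `2375000` of HN is 1 (helper641; piece H8)
-/

set_option autoImplicit false
set_option linter.unusedSectionVars false

open Cfsg Subgroup
open Cfsg.Agent.Characters.Core
open Cfsg.Agent.H493.RatB (RatV)
open scoped ComplexConjugate

namespace Cfsg.Agent.H641.M23

universe v

variable {G : Type v} [Group G] [Finite G]

/-- a rational character at `(v h)^j`, `v` of order 5, `h` a `5`-regular element commuting with `v` -/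
theorem val_pow {χ : IrrCharacter G} (hR : RatV (χ : G → ℂ)) {v h : G} (hc : Commute v h) (hv : orderOf v = 5)
    (h5 : ¬ 5 ∣ orderOf h) {j : ℕ} (hj : ¬ 5 ∣ j) : (χ : G → ℂ) ((v * h) ^ j) = (χ : G → ℂ) (v * h ^ j) := by
  have hp5 : Nat.Prime 5 := by norm_num
  have hn5 : ¬ 5 ∣ orderOf (h ^ j) := fun hd => h5 (hd.trans (orderOf_pow_dvd j))
  have hcop : Nat.Coprime 5 (orderOf (h ^ j)) := (Nat.Prime.coprime_iff_not_dvd hp5).2 hn5
  obtain ⟨k, hk1, hk2⟩ := Nat.chineseRemainder hcop j 1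
  have hk5 : Nat.Coprime k 5 := by
    rw [Nat.coprime_comm, Nat.Prime.coprime_iff_not_dvd hp5]
    intro hd
    exact hj ((hk1.dvd_iff (dvd_refl 5)).1 hd)
  have hkn : Nat.Coprime k (orderOf (h ^ j)) := by
    have h1 := hk2.gcd_eq
    rw [Nat.gcd_one_left] at h1
    exact h1
  have ho : orderOf (v * h ^ j) = 5 * orderOf (h ^ j) := by
    rw [(hc.pow_right j).orderOf_mul_eq_mul_orderOf_of_coprime (by rw [hv]; exact hcop), hv]
  obtain ⟨m, h1, h2⟩ := Cfsg.Agent.H689.exists_coprime_lift (m := k) (a := orderOf (v * h ^ j)) (N := Nat.card G)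
    Nat.card_pos.ne' (orderOf_dvd_natCard _) (by rw [ho]; exact Nat.Coprime.mul_right hk5 hkn)
  have h3 := (Cfsg.Agent.Characters.GaloisBasic.exists_rat_iff (isIrr_isCharacter χ.2) (v * h ^ j)).1 (hR _) m h1
  rw [pow_eq_pow_iff_modEq.2 h2, (hc.pow_right j).mul_pow] at h3
  have e1 : v ^ k = v ^ j := pow_eq_pow_iff_modEq.2 (by rw [hv]; exact hk1)
  have e2 : (h ^ j) ^ k = h ^ j := by
    conv_rhs => rw [← pow_one (h ^ j)]
    exact pow_eq_pow_iff_modEq.2 hk2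
  rw [e1, e2] at h3
  rw [hc.mul_pow]
  exact h3

/-- **H8.** -/
theorem inner_schur {χ : IrrCharacter G} (hR : RatV (χ : G → ℂ)) {v : G} {T : Subgroup G} [Fintype T]
    (hv : orderOf v = 5) (hc : ∀ h : T, Commute v (h : G)) (hT : Nat.card T = 273030912000000)
    {K : Fin 15 → Finset T} {F : T → ℤ} (Tb : Tab K F) (hn : 273030912000000 ≤ ∑ h, F h ^ 2) {θ : T → ℂ}
    (hθ : ∀ h, θ h = F h) (h5 : ∀ i, ∀ h ∈ K i, ¬ 5 ∣ orderOf h)
    (hb1 : ∀ i, ∀ h ∈ K i, (χ : G → ℂ) (v * (h : G)) = b1 i)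
    (hb2 : ∀ i, ∀ h ∈ K i, (χ : G → ℂ) (v * ((h ^ 2 : T) : G)) = b2 i)
    (hb3 : ∀ i, ∀ h ∈ K i, (χ : G → ℂ) (v * ((h ^ 3 : T) : G)) = b3 i) :
    classInner (fun t : T => ((χ : G → ℂ) (v * t) ^ 4 + 3 * (χ : G → ℂ) ((v * t) ^ 2) ^ 2 -
      4 * ((χ : G → ℂ) (v * t) * (χ : G → ℂ) ((v * t) ^ 3))) / 12) θ = 1 := by
  classical
  -- the integer function
  let S : T → ℤ := fun h => if hh : ∃ i, h ∈ K i then ss hh.choose else 0
  have hS : ∀ i, ∀ h ∈ K i, S h = ss i := by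
    intro i h hh
    have hex : ∃ i, h ∈ K i := ⟨i, hh⟩
    have h1 : hex.choose = i := by
      by_contra hne
      exact (Finset.disjoint_left.1 (Tb.dis _ _ hne)) hex.choose_spec hh
    show (if hh : ∃ i, h ∈ K i then ss hh.choose else 0) = ss i
    rw [dif_pos hex, h1]
  have hsum := Tb.sum_eq hn hS
  have key : ∀ h : T, ((χ : G → ℂ) (v * h) ^ 4 + 3 * (χ : G → ℂ) ((v * h) ^ 2) ^ 2 -
      4 * ((χ : G → ℂ) (v * h) * (χ : G → ℂ) ((v * h) ^ 3))) / 12 * conj (θ h) = ((S h * F h : ℤ) : ℂ) := by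
    intro h
    rw [hθ, map_intCast]
    by_cases hex : ∃ i, h ∈ K i
    · obtain ⟨i, hi⟩ := hex
      have h5' : ¬ 5 ∣ orderOf (h : G) := by rw [Subgroup.orderOf_coe]; exact h5 i h hi
      have e2 := val_pow hR (hc h) hv h5' (j := 2) (by norm_num)
      have e3 := val_pow hR (hc h) hv h5' (j := 3) (by norm_num)
      have c2 := hb2 i h hi
      have c3 := hb3 i h hi
      rw [Subgroup.coe_pow] at c2 c3
      rw [e2, e3, hb1 i h hi, c2, c3, hS i h hi]
      have h12 : (12 : ℂ) * (ss i : ℂ) = (b1 i : ℂ) ^ 4 + 3 * (b2 i : ℂ) ^ 2 - 4 * ((b1 i : ℂ) * (b3 i : ℂ)) := by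
        exact_mod_cast ss_eq i
      rw [← h12]
      push_cast
      ring
    · push Not at hex
      rw [Tb.zero h hex, mul_zero]
      push_cast
      ring
  rw [Characters.Core.classInner_def, Finset.sum_congr rfl fun h _ => key h, ← Int.cast_sum, hsum, hT]
  norm_num

end Cfsg.Agent.H641.M23
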