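import Cfsg.Agent.Characters.Core
import Cfsg.Agent.H101.Cod.Over

/-!
# A real constituent of odd multiplicity (helper641; (M,23) of S4929)

`exists_real_odd` : a real valued character `Φ` of `G` whose inner product over `u T` with the real valued function `θ` is
odd has a real valued irreducible constituent `χ` whose inner product over `u T` with `θ` is odd.
-/

set_option autoImplicit false

open Cfsg
open Cfsg.Agent.Characters.Core
open scoped ComplexConjugate

namespace Cfsg.Agent.H641.M23

universe v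

variable {G : Type v} [Group G] [Finite G]

/-- the complex conjugate of an irreducible character -/
noncomputable def cj (χ : IrrCharacter G) : IrrCharacter G := ⟨fun g => conj ((χ : G → ℂ) g), isIrr_conj χ.2⟩

theorem cj_apply (χ : IrrCharacter G) (g : G) : (cj χ : G → ℂ) g = conj ((χ : G → ℂ) g) := rfl

theorem cj_cj (χ : IrrCharacter G) : cj (cj χ) = χ := by
  apply Subtype.ext
  funext g
  rw [cj_apply, cj_apply, Complex.conj_conj]

/-- A function on the irreducible characters with odd sum, invariant under the complex conjugation, is odd at a real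
valued character. -/
theorem exists_fixed_odd [Fintype (IrrCharacter G)] {f : IrrCharacter G → ℤ} (hf : ∀ χ, f (cj χ) = f χ)
    (ho : Odd (∑ χ : IrrCharacter G, f χ)) :
    ∃ χ : IrrCharacter G, (∀ g, conj ((χ : G → ℂ) g) = (χ : G → ℂ) g) ∧ Odd (f χ) := by
  classical
  by_contra hcon
  push Not at hcon
  have h1 : ∀ χ : IrrCharacter G, cj χ = χ → ((f χ : ℤ) : ZMod 2) = 0 := by
    intro χ hχ
    have h2 := hcon χ fun g => congrFun (congrArg Subtype.val hχ) g
    rw [Int.not_odd_iff_even] at h2
    exact (ZMod.intCast_zmod_eq_zero_iff_dvd (f χ) 2).2 h2.two_dvd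
  have h3 : ∑ χ : IrrCharacter G, ((f χ : ℤ) : ZMod 2) = 0 := by
    refine Finset.sum_involution (fun χ _ => cj χ) ?_ ?_ ?_ ?_
    · intro χ _
      rw [hf]
      exact CharTwo.add_self_eq_zero _
    · intro χ _ hne h4
      exact hne (h1 χ h4)
    · intro χ _
      exact Finset.mem_univ _
    · intro χ _
      exact cj_cj χ
  rw [← Int.cast_sum] at h3
  have h4 := (ZMod.intCast_zmod_eq_zero_iff_dvd _ 2).1 h3
  exact (Int.not_even_iff_odd.2 ho) (even_iff_two_dvd.2 h4)

/-- **A real constituent with odd inner products.** -/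
theorem exists_real_odd [Fintype G] {u : G} {T : Subgroup G} [Fintype T] {θ : T → ℂ} {a : IrrCharacter G → ℤ}
    (ha : ∀ χ : IrrCharacter G, classInner (fun t : T => (χ : G → ℂ) (u * t)) θ = a χ)
    (hθ : ∀ t, conj (θ t) = θ t) {Φ : G → ℂ} (hΦ : IsCharacter G Φ) (hΦr : ∀ g, conj (Φ g) = Φ g)
    {m : ℤ} (hm : classInner (fun t : T => Φ (u * t)) θ = m) (hmo : Odd m) :
    ∃ χ : IrrCharacter G, (∀ g, conj ((χ : G → ℂ) g) = (χ : G → ℂ) g) ∧ Odd (a χ) ∧
      classInner Φ (χ : G → ℂ) ≠ 0 ∧ charDegree (χ : G → ℂ) ≤ charDegree Φ ∧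
      ∃ k : ℕ, Odd k ∧ classInner Φ (χ : G → ℂ) = k := by
  classical
  have hfin : Finite (IrrCharacter G) := finite_irr
  have hft := Fintype.ofFinite (IrrCharacter G)
  obtain ⟨c, hc⟩ := exists_nat_comb hΦ
  have hcc : ∀ χ : IrrCharacter G, classInner Φ (χ : G → ℂ) = c χ := fun χ => by
    conv_lhs => rw [hc]
    exact classInner_sum_nsmul_irr c χ
  have h1 : classInner (fun t : T => Φ (u * t)) θ = ∑ χ : IrrCharacter G, (c χ : ℂ) * a χ := by
    rw [hc, Characters.Core.classInner_def]
    simp only [Finset.sum_apply, nsmul_eq_mul, Finset.sum_mul]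
    rw [Finset.sum_comm, Finset.mul_sum]
    refine Finset.sum_congr rfl fun χ _ => ?_
    rw [← ha χ, Characters.Core.classInner_def, Finset.mul_sum, Finset.mul_sum, Finset.mul_sum]
    refine Finset.sum_congr rfl fun t _ => ?_
    have h3 : ((c χ : G → ℂ) * (χ : G → ℂ)) (u * (t : G)) = (c χ : ℂ) * (χ : G → ℂ) (u * t) := rfl
    rw [h3]
    ring
  rw [hm] at h1
  have h2 : m = ∑ χ : IrrCharacter G, (c χ : ℤ) * a χ := by exact_mod_cast h1
  -- invariance
  have hac : ∀ χ, a (cj χ) = a χ := by
    intro χ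
    have h3 : (a (cj χ) : ℂ) = conj (a χ : ℂ) := by
      rw [← ha, ← ha χ, Characters.Core.classInner_def, Characters.Core.classInner_def, map_mul, map_sum, map_inv₀,
        map_natCast]
      congr 1
      refine Finset.sum_congr rfl fun t _ => ?_
      rw [map_mul, cj_apply, hθ, hθ]
    rw [map_intCast] at h3
    exact_mod_cast h3
  have hcj : ∀ χ, c (cj χ) = c χ := by
    intro χ
    have h3 : (c (cj χ) : ℂ) = conj (c χ : ℂ) := by
      rw [← hcc, ← hcc χ, Characters.Core.classInner_def, Characters.Core.classInner_def, map_mul, map_sum, map_inv₀,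
        map_natCast]
      congr 1
      refine Finset.sum_congr rfl fun t _ => ?_
      rw [map_mul, cj_apply, hΦr]
    rw [map_natCast] at h3
    exact_mod_cast h3
  rw [h2] at hmo
  obtain ⟨χ, hχr, hχo⟩ := exists_fixed_odd (f := fun χ => (c χ : ℤ) * a χ) (fun χ => by rw [hac, hcj]) hmo
  rw [Int.odd_mul] at hχo
  have hck : Odd (c χ) := by exact_mod_cast hχo.1
  have hne : classInner Φ (χ : G → ℂ) ≠ 0 := by
    rw [hcc]
    exact_mod_cast hck.pos.ne'
  exact ⟨χ, hχr, hχo.2, hne, Cfsg.Agent.H101.Cod.charDegree_le_of_inner hΦ χ hne, c χ, hck, hcc χ⟩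

end Cfsg.Agent.H641.M23
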