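import Cfsg.Agent.H662.TensorPow
import Cfsg.Agent.PermChar.SymAlt

/-!
# The Schur functor `S_(2,2)` on characters (helper641; piece [PI] of (M,23), S4929)

`isCharacter_schur22` : for a character `χ` of a group `G` the function
`g ↦ (χ(g)^4 + 3 χ(g^2)^2 - 4 χ(g) χ(g^3)) / 12` is a character.
It is `Hom_{A₄}(ω, V^{⊗ 4})`, `ω` a non-trivial linear character of `A₄`.
-/

set_option autoImplicit false
set_option linter.unusedSectionVars false

open Cfsg Representation Module

namespace Cfsg.Agent.H641.M23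

open Cfsg.Agent.H662.TensorPow (tp tp_apply tp_mul tp_one)
open Cfsg.Agent.PermChar.SymAlt (trace_restrict)

variable {G : Type*} [Group G]

/-- the part of a representation cut out by an idempotent -/
theorem isCharacter_of_idem {W : Type*} [AddCommGroup W] [Module ℂ W] [FiniteDimensional ℂ W]
    (ρ : Representation ℂ G W) (P : Module.End ℂ W) (hP : P * P = P) (hc : ∀ g, P * ρ g = ρ g * P) :
    IsCharacter G (fun g => LinearMap.trace ℂ W (ρ g * P)) := by
  let U : Submodule ℂ W := LinearMap.range P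
  have hW : ∀ w ∈ U, P w = w := by
    rintro w ⟨x, rfl⟩
    rw [← Module.End.mul_apply, hP]
  have hg : ∀ (g : G) (w : W), w ∈ U → ρ g w ∈ U := by
    rintro g w ⟨x, rfl⟩
    refine ⟨ρ g x, ?_⟩
    rw [← Module.End.mul_apply, hc, Module.End.mul_apply]
  let σ : Representation ℂ G U :=
    { toFun := fun g => (ρ g).restrict (hg g)
      map_one' := by
        apply LinearMap.ext
        intro w
        apply Subtype.ext
        show ρ 1 (w : W) = w
        rw [map_one]
        rfl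
      map_mul' := by
        intro g h
        apply LinearMap.ext
        intro w
        apply Subtype.ext
        show ρ (g * h) (w : W) = ρ g (ρ h (w : W))
        rw [map_mul]
        rfl }
  have hσ : σ.character = fun g => LinearMap.trace ℂ W (ρ g * P) := by
    funext g
    have hmem : ∀ x, (ρ g * P) x ∈ U := by
      intro x
      rw [Module.End.mul_apply]
      exact hg g _ ⟨x, rfl⟩
    have h1 : σ g = (ρ g * P).restrict (fun v _ => hmem v) := by
      apply LinearMap.ext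
      intro w
      apply Subtype.ext
      show ρ g (w : W) = ρ g (P (w : W))
      rw [hW _ w.2]
    show LinearMap.trace ℂ U (σ g) = _
    rw [h1, trace_restrict]
  rw [← hσ]
  exact Characters.Core.isCharacter_of_rep σ

/-! ### permutations of the factors -/

section perm

variable {n : ℕ} {I : Type*} [Fintype I] [DecidableEq I]

/-- the permutation of the factors -/
def PR (σ : Equiv.Perm (Fin n)) : Matrix (Fin n → I) (Fin n → I) ℂ :=
  Matrix.of fun x y => if x ∘ σ = y then 1 else 0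

theorem PR_apply (σ : Equiv.Perm (Fin n)) (x y : Fin n → I) : (PR σ : Matrix (Fin n → I) (Fin n → I) ℂ) x y =
    if x ∘ σ = y then 1 else 0 := rfl

theorem PR_mul_apply (σ : Equiv.Perm (Fin n)) (M : Matrix (Fin n → I) (Fin n → I) ℂ) (x y : Fin n → I) :
    ((PR σ : Matrix (Fin n → I) (Fin n → I) ℂ) * M) x y = M (x ∘ σ) y := by
  rw [Matrix.mul_apply, Finset.sum_eq_single (x ∘ σ)]
  · rw [PR_apply, if_pos rfl, one_mul]
  · intro z _ hz
    rw [PR_apply, if_neg (Ne.symm hz), zero_mul]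
  · intro h
    exact absurd (Finset.mem_univ _) h

theorem PR_one : (PR 1 : Matrix (Fin n → I) (Fin n → I) ℂ) = 1 := by
  ext x y
  rw [PR_apply, Matrix.one_apply]
  rfl

theorem PR_mul (σ τ : Equiv.Perm (Fin n)) :
    (PR (σ * τ) : Matrix (Fin n → I) (Fin n → I) ℂ) = PR σ * PR τ := by
  ext x y
  rw [PR_mul_apply, PR_apply, PR_apply]
  rfl

theorem mul_PR_apply (σ : Equiv.Perm (Fin n)) (M : Matrix (Fin n → I) (Fin n → I) ℂ) (x y : Fin n → I) :
    (M * (PR σ : Matrix (Fin n → I) (Fin n → I) ℂ)) x y = M x (y ∘ σ.symm) := by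
  rw [Matrix.mul_apply, Finset.sum_eq_single (y ∘ σ.symm)]
  · rw [PR_apply, if_pos (by funext i; simp), mul_one]
  · intro z _ hz
    rw [PR_apply, if_neg, mul_zero]
    rintro rfl
    exact hz (by funext i; simp)
  · intro h
    exact absurd (Finset.mem_univ _) h

theorem PR_comm (σ : Equiv.Perm (Fin n)) (A : Matrix I I ℂ) : PR σ * tp n A = tp n A * PR σ := by
  ext x y
  have h := Equiv.prod_comp σ fun k => A (x k) ((y ∘ σ.symm) k)
  rw [PR_mul_apply, mul_PR_apply, tp_apply, tp_apply, ← h]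
  refine Finset.prod_congr rfl fun k _ => ?_
  simp

theorem trace_eq (σ : Equiv.Perm (Fin n)) (A : Matrix I I ℂ) :
    (tp n A * PR σ).trace = ∑ x : Fin n → I, ∏ k, A (x (σ k)) (x k) := by
  rw [← PR_comm]
  refine Finset.sum_congr rfl fun x _ => ?_
  rw [Matrix.diag_apply, PR_mul_apply, tp_apply]
  rfl

theorem trace_conj (σ τ : Equiv.Perm (Fin n)) (A : Matrix I I ℂ) :
    (tp n A * PR (τ * σ * τ⁻¹)).trace = (tp n A * PR σ).trace := by
  rw [PR_mul, PR_mul, ← mul_assoc, Matrix.trace_mul_comm, ← mul_assoc, ← mul_assoc, PR_comm,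
    mul_assoc (tp n A), ← PR_mul, inv_mul_cancel, PR_one, mul_one]

end perm

/-! ### the sums -/

section sums

variable {I : Type*} [Fintype I] [DecidableEq I]

theorem sum_cons {n : ℕ} (F : (Fin (n + 1) → I) → ℂ) :
    ∑ x, F x = ∑ a : I, ∑ y : Fin n → I, F (Fin.cons a y) := by
  rw [← (Fin.consEquiv fun _ : Fin (n + 1) => I).sum_comp, Fintype.sum_prod_type]
  rfl

theorem sum_four (F : (Fin 4 → I) → ℂ) : ∑ x, F x = ∑ a : I, ∑ b : I, ∑ c : I, ∑ d : I, F ![a, b, c, d] := by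
  simp only [sum_cons, Fintype.sum_unique]
  rfl

theorem tr_id (A : Matrix I I ℂ) : (tp 4 A * PR 1).trace = A.trace ^ 4 := by
  rw [trace_eq, sum_four]
  simp only [Fin.prod_univ_four, Equiv.Perm.one_apply]
  show ∑ a, ∑ b, ∑ c, ∑ d, A a a * A b b * A c c * A d d = _
  simp only [← Finset.mul_sum, ← Finset.sum_mul]
  rw [Matrix.trace]
  simp only [Matrix.diag_apply]
  ring

/-- `(0 1)(2 3)` -/
def s1 : Equiv.Perm (Fin 4) := Equiv.swap 0 1 * Equiv.swap 2 3

/-- `(0 1 2)` -/
def s2 : Equiv.Perm (Fin 4) := Equiv.swap 0 1 * Equiv.swap 1 2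

theorem tr_s1 (A : Matrix I I ℂ) : (tp 4 A * PR s1).trace = (A * A).trace ^ 2 := by
  rw [trace_eq, sum_four]
  simp only [Fin.prod_univ_four]
  have e0 : s1 0 = 1 := by decide
  have e1 : s1 1 = 0 := by decide
  have e2 : s1 2 = 3 := by decide
  have e3 : s1 3 = 2 := by decide
  rw [e0, e1, e2, e3]
  show ∑ a, ∑ b, ∑ c, ∑ d, A b a * A a b * A d c * A c d = _
  have h : (A * A).trace = ∑ a, ∑ b, A b a * A a b := by
    rw [Matrix.trace]
    refine Finset.sum_congr rfl fun a _ => ?_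
    rw [Matrix.diag_apply, Matrix.mul_apply]
    exact Finset.sum_congr rfl fun b _ => mul_comm _ _
  rw [h, pow_two, Finset.sum_mul]
  refine Finset.sum_congr rfl fun a _ => ?_
  rw [Finset.sum_mul]
  refine Finset.sum_congr rfl fun b _ => ?_
  rw [Finset.mul_sum]
  refine Finset.sum_congr rfl fun c _ => ?_
  rw [Finset.mul_sum]
  exact Finset.sum_congr rfl fun d _ => by ring

theorem tr_s2 (A : Matrix I I ℂ) : (tp 4 A * PR s2).trace = A.trace * (A * A * A).trace := by
  rw [trace_eq, sum_four]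
  simp only [Fin.prod_univ_four]
  have e0 : s2 0 = 1 := by decide
  have e1 : s2 1 = 2 := by decide
  have e2 : s2 2 = 0 := by decide
  have e3 : s2 3 = 3 := by decide
  rw [e0, e1, e2, e3]
  show ∑ a, ∑ b, ∑ c, ∑ d, A b a * A c b * A a c * A d d = _
  have h : (A * A * A).trace = ∑ a, ∑ b, ∑ c, A b a * A c b * A a c := by
    rw [Matrix.trace]
    refine Finset.sum_congr rfl fun a _ => ?_
    rw [Matrix.diag_apply, Matrix.mul_apply]
    refine Finset.sum_congr rfl fun b _ => ?_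
    rw [Matrix.mul_apply, Finset.sum_mul]
    exact Finset.sum_congr rfl fun c _ => by ring
  simp only [← Finset.mul_sum, ← Finset.sum_mul]
  rw [h, mul_comm]
  rfl

end sums

/-! ### the alternating group of degree 4 -/

/-- the even permutations of `Fin 4` -/
abbrev K4 : Type := ↥(alternatingGroup (Fin 4))

/-- the homomorphism onto `ZMod 3` -/
def t4 (σ : Equiv.Perm (Fin 4)) : ZMod 3 := (((σ 0).val ^^^ (σ 1).val : ℕ) : ZMod 3) - 1

theorem t4_mul : ∀ σ τ : K4, t4 (σ * τ : Equiv.Perm (Fin 4)) = t4 σ + t4 τ := by decide +kernel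

theorem t4_zero : ∀ σ : K4, t4 σ = 0 → (σ : Equiv.Perm (Fin 4)) ≠ 1 →
    ∃ τ : Equiv.Perm (Fin 4), (σ : Equiv.Perm (Fin 4)) = τ * s1 * τ⁻¹ := by decide +kernel

theorem t4_ne : ∀ σ : K4, t4 σ ≠ 0 → ∃ τ : Equiv.Perm (Fin 4), (σ : Equiv.Perm (Fin 4)) = τ * s2 * τ⁻¹ := by
  decide +kernel

theorem card_K4 : Fintype.card K4 = 12 := by decide +kernel

theorem card_t1 : (Finset.univ.filter fun σ : K4 => t4 σ = 1).card = 4 := by decide +kernel

theorem card_t2 : (Finset.univ.filter fun σ : K4 => t4 σ = 2).card = 4 := by decide +kernel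

theorem card_t0 : (Finset.univ.filter fun σ : K4 => t4 σ = 0 ∧ (σ : Equiv.Perm (Fin 4)) ≠ 1).card = 3 := by
  decide +kernel

theorem card_one : (Finset.univ.filter fun σ : K4 => (σ : Equiv.Perm (Fin 4)) = 1).card = 1 := by decide +kernel

theorem t4_cases : ∀ σ : K4, (σ : Equiv.Perm (Fin 4)) = 1 ∨ (t4 σ = 0 ∧ (σ : Equiv.Perm (Fin 4)) ≠ 1) ∨ t4 σ = 1 ∨
    t4 σ = 2 := by decide +kernel

theorem t4_one : t4 1 = 0 := by decide +kernel

/-! ### the projection -/

theorem exists_omega : ∃ z : ℂ, z ^ 3 = 1 ∧ 1 + z + z ^ 2 = 0 := by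
  refine ⟨Complex.exp (2 * Real.pi * Complex.I / (3 : ℕ)), ?_, ?_⟩
  · exact (Complex.isPrimitiveRoot_exp 3 (by norm_num)).pow_eq_one
  · have h := (Complex.isPrimitiveRoot_exp 3 (by norm_num)).geom_sum_eq_zero (by norm_num)
    rw [Finset.sum_range_succ, Finset.sum_range_succ, Finset.sum_range_one, pow_zero, pow_one] at h
    exact h

/-- the powers of `z` -/
def om (z : ℂ) (t : ZMod 3) : ℂ := z ^ t.val

theorem om_add {z : ℂ} (hz : z ^ 3 = 1) (s t : ZMod 3) : om z (s + t) = om z s * om z t := by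
  unfold om
  rw [← pow_add, ZMod.val_add, ← pow_eq_pow_mod _ hz]

section main

variable {I : Type*} [Fintype I] [DecidableEq I] (z : ℂ)

/-- the projection -/
noncomputable def PP (I : Type*) [Fintype I] [DecidableEq I] (z : ℂ) : Matrix (Fin 4 → I) (Fin 4 → I) ℂ :=
  (12 : ℂ)⁻¹ • ∑ σ : K4, om z (t4 σ) • PR (σ : Equiv.Perm (Fin 4))

theorem PP_mul_PP {z : ℂ} (hz : z ^ 3 = 1) : PP I z * PP I z = PP I z := by
  have h1 : ∀ σ : K4, (om z (t4 σ) • (PR (σ : Equiv.Perm (Fin 4)) : Matrix (Fin 4 → I) (Fin 4 → I) ℂ)) *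
      (∑ τ : K4, om z (t4 τ) • PR (τ : Equiv.Perm (Fin 4))) =
      ∑ τ : K4, om z (t4 τ) • PR (τ : Equiv.Perm (Fin 4)) := by
    intro σ
    rw [Finset.mul_sum]
    have h2 := Equiv.sum_comp (Equiv.mulLeft σ) fun τ : K4 =>
      om z (t4 τ) • (PR (τ : Equiv.Perm (Fin 4)) : Matrix (Fin 4 → I) (Fin 4 → I) ℂ)
    rw [← h2]
    refine Finset.sum_congr rfl fun τ _ => ?_
    show _ = om z (t4 (σ * τ : Equiv.Perm (Fin 4))) • PR (σ * τ : Equiv.Perm (Fin 4))
    rw [smul_mul_smul_comm, t4_mul, om_add hz, PR_mul]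
  unfold PP
  rw [smul_mul_smul_comm, Finset.sum_mul, Finset.sum_congr rfl fun σ _ => h1 σ, Finset.sum_const, Finset.card_univ,
    card_K4, ← Nat.cast_smul_eq_nsmul ℂ, smul_smul]
  congr 1
  norm_num

theorem PP_comm (A : Matrix I I ℂ) : PP I z * tp 4 A = tp 4 A * PP I z := by
  unfold PP
  rw [smul_mul_assoc, mul_smul_comm, Finset.sum_mul, Finset.mul_sum]
  congr 1
  refine Finset.sum_congr rfl fun σ _ => ?_
  rw [smul_mul_assoc, mul_smul_comm, PR_comm]

theorem trace_PP {z : ℂ} (hz0 : 1 + z + z ^ 2 = 0) (A : Matrix I I ℂ) :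
    (tp 4 A * PP I z).trace =
      (A.trace ^ 4 + 3 * (A * A).trace ^ 2 - 4 * (A.trace * (A * A * A).trace)) / 12 := by
  have h1 : ∀ σ : K4, om z (t4 σ) * (tp 4 A * PR (σ : Equiv.Perm (Fin 4))).trace =
      (if (σ : Equiv.Perm (Fin 4)) = 1 then A.trace ^ 4 else 0) +
      (if t4 σ = 0 ∧ (σ : Equiv.Perm (Fin 4)) ≠ 1 then (A * A).trace ^ 2 else 0) +
      (if t4 σ = 1 then z * (A.trace * (A * A * A).trace) else 0) +
      (if t4 σ = 2 then z ^ 2 * (A.trace * (A * A * A).trace) else 0) := by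
    intro σ
    have e0 : om z 0 = 1 := pow_zero _
    have e1 : om z 1 = z := pow_one _
    have e2 : om z 2 = z ^ 2 := rfl
    rcases t4_cases σ with h | h | h | h
    · have h3 : t4 (σ : Equiv.Perm (Fin 4)) = 0 := by rw [h]; exact t4_one
      rw [h3, if_pos h, if_neg (fun h' => h'.2 h), if_neg (by decide), if_neg (by decide), h, tr_id, e0]
      ring
    · obtain ⟨τ, hτ⟩ := t4_zero σ h.1 h.2
      have h3 := h.1
      rw [if_neg h.2, if_pos h, h3, if_neg (by decide), if_neg (by decide), hτ, trace_conj, tr_s1, e0]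
      ring
    · obtain ⟨τ, hτ⟩ := t4_ne σ (by rw [h]; decide)
      have h3 : (σ : Equiv.Perm (Fin 4)) ≠ 1 := by
        intro h4
        rw [h4, t4_one] at h
        exact absurd h (by decide)
      rw [if_neg h3, h, if_neg (fun h' => absurd h'.1 (by decide)), if_pos rfl, if_neg (by decide), hτ, trace_conj,
        tr_s2, e1]
      ring
    · obtain ⟨τ, hτ⟩ := t4_ne σ (by rw [h]; decide)
      have h3 : (σ : Equiv.Perm (Fin 4)) ≠ 1 := by
        intro h4
        rw [h4, t4_one] at h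
        exact absurd h (by decide)
      rw [if_neg h3, h, if_neg (fun h' => absurd h'.1 (by decide)), if_neg (by decide), if_pos rfl, hτ, trace_conj,
        tr_s2, e2]
      ring
  have h2 : (tp 4 A * PP I z).trace = (12 : ℂ)⁻¹ * ∑ σ : K4, om z (t4 σ) * (tp 4 A * PR (σ : Equiv.Perm (Fin 4))).trace := by
    unfold PP
    rw [mul_smul_comm, Matrix.trace_smul, Finset.mul_sum, Matrix.trace_sum, smul_eq_mul]
    congr 1
    refine Finset.sum_congr rfl fun σ _ => ?_
    rw [mul_smul_comm, Matrix.trace_smul, smul_eq_mul]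
  rw [h2, Finset.sum_congr rfl fun σ _ => h1 σ, Finset.sum_add_distrib, Finset.sum_add_distrib,
    Finset.sum_add_distrib, ← Finset.sum_filter, ← Finset.sum_filter, ← Finset.sum_filter, ← Finset.sum_filter,
    Finset.sum_const, Finset.sum_const, Finset.sum_const, Finset.sum_const, card_one, card_t0, card_t1, card_t2]
  have h3 : z ^ 2 = -1 - z := by linear_combination hz0
  rw [h3]
  simp only [nsmul_eq_mul]
  push_cast
  ring

end main

/-- **The Schur functor `S_(2,2)`.** -/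
theorem isCharacter_schur22 {χ : G → ℂ} (hχ : IsCharacter G χ) :
    IsCharacter G (fun g => (χ g ^ 4 + 3 * χ (g ^ 2) ^ 2 - 4 * (χ g * χ (g ^ 3))) / 12) := by
  obtain ⟨n, ρ, rfl⟩ := hχ
  obtain ⟨z, hz, hz0⟩ := exists_omega
  let A : G →* Matrix (Fin n) (Fin n) ℂ := (LinearMap.toMatrixAlgEquiv' : _ ≃ₐ[ℂ] Matrix (Fin n) (Fin n) ℂ).toMonoidHom.comp ρ
  let τ : Representation ℂ G ((Fin 4 → Fin n) → ℂ) :=
    (Matrix.toLinAlgEquiv' : Matrix (Fin 4 → Fin n) (Fin 4 → Fin n) ℂ ≃ₐ[ℂ] _).toMonoidHom.comp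
      ((Cfsg.Agent.H662.TensorPow.tpHom 4).comp A)
  have hA : ∀ g, (A g).trace = ρ.character g := fun g => by
    show Matrix.trace (LinearMap.toMatrix' (ρ g)) = LinearMap.trace ℂ _ (ρ g)
    rw [← Matrix.trace_toLin'_eq, Matrix.toLin'_toMatrix']
  have h := isCharacter_of_idem τ (Matrix.toLinAlgEquiv' (PP (Fin n) z)) (by
    rw [← map_mul, PP_mul_PP hz]) (fun g => by
    show Matrix.toLinAlgEquiv' (PP (Fin n) z) * Matrix.toLinAlgEquiv' (tp 4 (A g)) =
      Matrix.toLinAlgEquiv' (tp 4 (A g)) * Matrix.toLinAlgEquiv' (PP (Fin n) z)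
    rw [← map_mul, ← map_mul, PP_comm])
  have e : (fun g => LinearMap.trace ℂ _ (τ g * Matrix.toLinAlgEquiv' (PP (Fin n) z))) =
      fun g => (ρ.character g ^ 4 + 3 * ρ.character (g ^ 2) ^ 2 - 4 * (ρ.character g * ρ.character (g ^ 3))) / 12 := by
    funext g
    have h1 : τ g * Matrix.toLinAlgEquiv' (PP (Fin n) z) = Matrix.toLin' (tp 4 (A g) * PP (Fin n) z) := by
      show Matrix.toLinAlgEquiv' (tp 4 (A g)) * Matrix.toLinAlgEquiv' (PP (Fin n) z) = _
      rw [← map_mul]
      rfl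
    rw [h1, Matrix.trace_toLin'_eq, trace_PP hz0, ← map_mul, ← map_mul, hA, hA, hA, ← pow_two, ← pow_succ]
  rw [← e]
  exact h

end Cfsg.Agent.H641.M23
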